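import Mathlib
import Cfsg.Agent.Spor.HeFr

/-!
A group acting on `2^(1+6)_+` with a subgroup of odd index acting as the unitriangular group: averaging the
bilinear form that describes the two invariant elementary abelian subgroups.
-/

set_option autoImplicit false
set_option maxRecDepth 100000
set_option synthInstance.maxSize 100000
set_option synthInstance.maxHeartbeats 1000000

namespace Cfsg.Agent.UT

open Cfsg.Agent.Spor Cfsg.Agent.Spor.HeFr Cfsg.Agent.Rec Subgroup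

/-- The cocycle. -/
def bt (s t : EG) : ZMod 2 := t.u0 * s.v0 + t.u1 * s.v1 + t.u2 * s.v2
/-- The commutator form. -/
def bB (s t : EG) : ZMod 2 := bt s t + bt t s
/-- The invariant forms. -/
def bG (p q r w : ZMod 2) (s t : EG) : ZMod 2 :=
  p * (s.u0 * t.u1 + s.u1 * t.u0) + q * (s.u1 * t.v2 + s.v2 * t.u1) + w * (s.v0 * t.v2 + s.v2 * t.v0) +
    (r + 1) * (s.u0 * t.v0 + s.u1 * t.v1 + s.u2 * t.v2) + r * (s.v0 * t.u0 + s.v1 * t.u1 + s.v2 * t.u2)
/-- The endomorphism attached to an invariant form. -/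
def Em (p q r w : ZMod 2) (s : EG) : EG :=
  ⟨0, w * s.v2 + (r + 1) * s.u0, (r + 1) * s.u1, q * s.u1 + w * s.v0 + (r + 1) * s.u2, p * s.u1 + r * s.v0,
    p * s.u0 + q * s.v2 + r * s.v1, r * s.v2⟩
/-- The two candidates for the first invariant subgroup. -/
abbrev InU (p : ZMod 2) (s : EG) : Prop := s.v2 = 0 ∧ s.v0 = p * s.u1 ∧ s.v1 = p * s.u0
/-- The two candidates for the second invariant subgroup. -/
abbrev InV (w : ZMod 2) (s : EG) : Prop := s.u1 = 0 ∧ s.u0 = w * s.v2 ∧ s.u2 = w * s.v0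

theorem bB_Em (p q r w : ZMod 2) (s t : EG) : bB (Em p q r w s) t = bG p q r w s t := by
  simp only [bB, bt, Em, bG]; ring

theorem bG_congr (p q r w : ZMod 2) {x y : EG} (h : ∀ t, bB x t = bB y t) (t : EG) :
    bG p q r w x t = bG p q r w y t := by
  have h0 := h (Bs 0); have h1 := h (Bs 1); have h2 := h (Bs 2)
  have h3 := h (Bs 3); have h4 := h (Bs 4); have h5 := h (Bs 5)
  simp [bB, bt, Bs] at h0 h1 h2 h3 h4 h5
  simp only [bG, h0, h1, h2, h3, h4, h5]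

theorem bB_iff (c : ZMod 2) (x s : EG) : (∀ t, bB x t = c * bB s t) ↔ x.u0 = c * s.u0 ∧ x.u1 = c * s.u1 ∧
    x.u2 = c * s.u2 ∧ x.v0 = c * s.v0 ∧ x.v1 = c * s.v1 ∧ x.v2 = c * s.v2 := by
  refine ⟨fun h => ?_, fun ⟨h0, h1, h2, h3, h4, h5⟩ t => by simp only [bB, bt, h0, h1, h2, h3, h4, h5]; ring⟩
  have h0 := h (Bs 0); have h1 := h (Bs 1); have h2 := h (Bs 2)
  have h3 := h (Bs 3); have h4 := h (Bs 4); have h5 := h (Bs 5)
  simp [bB, bt, Bs] at h0 h1 h2 h3 h4 h5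
  exact ⟨h3, h4, h5, h0, h1, h2⟩

theorem inU_iff (p q r w : ZMod 2) (s : EG) :
    InU p s ↔ ∀ t, bB (Em p q r w (Em p q r w s)) t = (r + 1) * bB s t := by
  have e : ∀ a : ZMod 2, a = 0 ∨ a = 1 := by decide
  rw [bB_iff]
  rcases e p with rfl | rfl <;> rcases e q with rfl | rfl <;> rcases e r with rfl | rfl <;>
    rcases e w with rfl | rfl <;> simp only [Em, InU] <;> grind

theorem inV_iff (p q r w : ZMod 2) (s : EG) : InV w s ↔ ∀ t, bB (Em p q r w (Em p q r w s)) t = r * bB s t := by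
  have e : ∀ a : ZMod 2, a = 0 ∨ a = 1 := by decide
  rw [bB_iff]
  rcases e p with rfl | rfl <;> rcases e q with rfl | rfl <;> rcases e r with rfl | rfl <;>
    rcases e w with rfl | rfl <;> simp only [Em, InV] <;> grind

theorem em_inv {p q r w c : ZMod 2} {a : EG → EG} (ha : Function.Surjective a) (hB : ∀ s t, bB (a s) (a t) = bB s t)
    (hG : ∀ s t, bG p q r w (a s) (a t) = bG p q r w s t) {s : EG}
    (h : ∀ t, bB (Em p q r w (Em p q r w s)) t = c * bB s t) (t : EG) :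
    bB (Em p q r w (Em p q r w (a s))) t = c * bB (a s) t := by
  obtain ⟨t, rfl⟩ := ha t
  rw [bB_Em, bG_congr p q r w (y := a (Em p q r w s)) fun u => ?_, hG, ← bB_Em, h, hB]
  obtain ⟨u, rfl⟩ := ha u
  rw [bB_Em, hG, hB, bB_Em]

theorem bil_ext {γ δ : EG → EG → ZMod 2} (h1 : ∀ s t u, γ (s * t) u = γ s u + γ t u)
    (h2 : ∀ s t u, γ u (s * t) = γ u s + γ u t) (h3 : ∀ s t u, δ (s * t) u = δ s u + δ t u)
    (h4 : ∀ s t u, δ u (s * t) = δ u s + δ u t) (h : ∀ i j, γ (Bs i) (Bs j) = δ (Bs i) (Bs j)) (s t : EG) :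
    γ s t = δ s t := by
  have k : ∀ f g : EG → ZMod 2, (∀ s t, f (s * t) = f s + f t) → (∀ s t, g (s * t) = g s + g t) →
      (∀ i, f (Bs i) = g (Bs i)) → ∀ s, f s = g s := fun f g hf hg h s =>
    DFunLike.congr_fun (hom_ext (H := Multiplicative (ZMod 2)) (φ := MonoidHom.mk' f hf) (ψ := MonoidHom.mk' g hg) h) s
  exact k (γ s) (δ s) (h2 · · s) (h4 · · s) (fun j => k (γ · (Bs j)) (δ · (Bs j)) (h1 · · _) (h3 · · _) (h · j) s) t

theorem form_eq {γ : EG → EG → ZMod 2} (h1 : ∀ s t u, γ (s * t) u = γ s u + γ t u)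
    (h2 : ∀ s t u, γ u (s * t) = γ u s + γ u t) (ha : ∀ s t, γ (Ta s) (Ta t) = γ s t)
    (hb : ∀ s t, γ (Tb s) (Tb t) = γ s t) (hq : ∀ s, γ s s = bt s s) : ∃ p q r w, ∀ s t, γ s t = bG p q r w s t := by
  refine ⟨γ (Bs 1) (Bs 0), γ (Bs 5) (Bs 1), γ (Bs 5) (Bs 2), γ (Bs 5) (Bs 3), bil_ext h1 h2
    (fun s t u => by simp only [bG, EG.mul_def]; ring) (fun s t u => by simp only [bG, EG.mul_def]; ring) ?_⟩
  have a : (Ta (Bs 0) = Bs 0 ∧ Ta (Bs 1) = Bs 0 * Bs 1 ∧ Ta (Bs 2) = Bs 2 ∧ Ta (Bs 3) = Bs 3 * Bs 4 ∧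
      Ta (Bs 4) = Bs 4 ∧ Ta (Bs 5) = Bs 5) ∧ Tb (Bs 0) = Bs 0 * Bs 2 ∧ Tb (Bs 1) = Bs 1 ∧
      Tb (Bs 3) = Bs 3 ∧ Tb (Bs 4) = Bs 4 ∧ Tb (Bs 5) = Bs 3 * Bs 5 := by decide +kernel
  have e1 := ha (Bs 1) (Bs 2); have e2 := ha (Bs 1) (Bs 4); have e3 := ha (Bs 1) (Bs 5)
  have e4 := ha (Bs 3) (Bs 5); have e5 := ha (Bs 1) (Bs 3); have e6 := hb (Bs 0) (Bs 1)
  have e7 := hb (Bs 0) (Bs 3); have e8 := hb (Bs 0) (Bs 4); have e9 := hb (Bs 5) (Bs 1)
  have e10 := hb (Bs 5) (Bs 4); have e11 := hb (Bs 0) (Bs 5)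
  simp only [a, h1, h2] at e1 e2 e3 e4 e5 e6 e7 e8 e9 e10 e11
  have d : ∀ i, γ (Bs i) (Bs i) = 0 := fun i => (hq _).trans (by revert i; decide +kernel)
  have s : ∀ i j, γ (Bs j) (Bs i) = γ (Bs i) (Bs j) + bB (Bs i) (Bs j) := fun i j => by
    have h3 := hq (Bs i * Bs j)
    rw [h1, h2, h2, d, d, (by decide +kernel : ∀ i j, bt (Bs i * Bs j) (Bs i * Bs j) = bB (Bs i) (Bs j))] at h3
    grind
  have s01 := s 0 1; have s02 := s 0 2; have s03 := s 0 3; have s04 := s 0 4; have s05 := s 0 5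
  have s12 := s 1 2; have s13 := s 1 3; have s14 := s 1 4; have s15 := s 1 5; have s23 := s 2 3
  have s24 := s 2 4; have s25 := s 2 5; have s34 := s 3 4; have s35 := s 3 5; have s45 := s 4 5
  have d0 := d 0; have d1 := d 1; have d2 := d 2; have d3 := d 3; have d4 := d 4; have d5 := d 5
  clear d s a
  generalize hb' : (fun i j => γ (Bs i) (Bs j)) = b
  have hb2 : ∀ i j, γ (Bs i) (Bs j) = b i j := fun i j => by rw [← hb']
  simp only [hb2] at *
  simp [bB, bt, Bs] at s01 s02 s03 s04 s05 s12 s13 s14 s15 s23 s24 s25 s34 s35 s45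
  intro i j
  fin_cases i <;> fin_cases j <;> simp [bG, Bs] <;> grind

theorem exists_inv {K : Type*} [Group K] [Finite K] {ν : EG →* K} (hν : Function.Injective ν)
    (hn : ∀ g s, ∃ s', g * ν s * g⁻¹ = ν s') (hz : ∀ g, g * ν Z = ν Z * g) {a b : K} (ha : Act ν a Ta)
    (hb : Act ν b Tb) (ho : Odd (clos [ν (Bs 1), a, b, ν (Bs 5)]).index) :
    ∃ p w, ∀ g s s', g * ν s * g⁻¹ = ν s' → (InU p s → InU p s') ∧ (InV w s → InV w s') := by
  choose τ hτ using hn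
  have t1 : ∀ g h s, τ (g * h) s = τ g (τ h s) := fun g h s => hν (by rw [← hτ, ← hτ, ← hτ]; group)
  have t2 : ∀ g s t, τ g (s * t) = τ g s * τ g t := fun g s t => hν (by
    rw [map_mul, ← hτ, ← hτ, ← hτ, map_mul]; group)
  have t3 : ∀ s, τ 1 s = s := fun s => hν (by rw [← hτ]; group)
  have t4 : ∀ g s, bt (τ g s) (τ g s) = bt s s := fun g s => by
    have k : ∀ s : EG, (s * s = 1 ∨ s * s = Z) ∧ (s * s).e = bt s s := by decide +kernel
    rw [← (k _).2, ← (k _).2, ← t2]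
    refine congrArg _ (hν ?_)
    rcases (k s).1 with e | e <;> rw [← hτ, e]
    · simp
    · rw [hz, mul_inv_cancel_right]
  have l1 : ∀ s t u, bt (s * t) u = bt s u + bt t u := fun s t u => by simp only [bt, EG.mul_def]; ring
  have l2 : ∀ s t u, bt u (s * t) = bt u s + bt u t := fun s t u => by simp only [bt, EG.mul_def]; ring
  have t5 : ∀ g s t, bB (τ g s) (τ g t) = bB s t := fun g s t => by
    have := t4 g (s * t)
    rw [t2, l1, l2, l2, l1, l2, l2, t4, t4] at this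
    simp only [bB]
    linear_combination this
  have ta : ∀ s, τ a s = Ta s := fun s => hν ((hτ a s).symm.trans (ha s))
  have tb : ∀ s, τ b s = Tb s := fun s => hν ((hτ b s).symm.trans (hb s))
  let S : Subgroup K :=
    { carrier := {g | ∀ s t, bt (τ g s) (τ g t) = bt s t}
      one_mem' := fun s t => by rw [t3, t3]
      mul_mem' := fun {g h} hg hh s t => by rw [t1, t1, hg, hh]
      inv_mem' := fun {g} hg s t => by rw [← hg, ← t1, ← t1, mul_inv_cancel, t3, t3] }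
  have hS : clos [ν (Bs 1), a, b, ν (Bs 5)] ≤ S := clos_le.2 (by
    have k : ∀ r, ν r ∈ S := fun r s t => by
      have e : ∀ s, τ (ν r) s = r * s * r⁻¹ := fun s => hν (by rw [← hτ]; simp)
      have e' : ∀ s, r * s * r⁻¹ = ⟨(r * s * r⁻¹).e, s.u0, s.u1, s.u2, s.v0, s.v1, s.v2⟩ := fun s => by
        ext <;> first | rfl | exact (by decide : ∀ a b : ZMod 2, a + b + a = b) _ _
      rw [e, e, e', e' t]; rfl
    simp only [List.forall_mem_cons]
    refine ⟨k _, fun s t => ?_, fun s t => ?_, k _, by simp⟩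
    · rw [ta, ta]; simp only [bt, Ta, MonoidHom.mk'_apply]; grind
    · rw [tb, tb]; simp only [bt, Tb, MonoidHom.mk'_apply]; grind)
  generalize clos [ν (Bs 1), a, b, ν (Bs 5)] = T at ho hS
  have := Fintype.ofFinite (K ⧸ T)
  let γ : EG → EG → ZMod 2 := fun s t => ∑ c : K ⧸ T, bt (τ c.out⁻¹ s) (τ c.out⁻¹ t)
  have g1 : ∀ k s t, γ (τ k s) (τ k t) = γ s t := fun k s t => by
    refine Eq.trans (Finset.sum_congr rfl fun c _ => ?_) (Equiv.sum_comp (MulAction.toPerm k⁻¹) _)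
    obtain ⟨x, hx⟩ := QuotientGroup.mk_out_eq_mul T (k⁻¹ * c.out)
    rw [MulAction.toPerm_apply, ← MulAction.Quotient.mk_smul_out, smul_eq_mul, hx, mul_inv_rev, t1, t1,
      hS (inv_mem x.2), mul_inv_rev, inv_inv, t1, t1]
  obtain ⟨p, q, r, w, h⟩ := form_eq (γ := γ) (fun s t u => by simp only [γ, t2, l1, Finset.sum_add_distrib])
    (fun s t u => by simp only [γ, t2, l2, Finset.sum_add_distrib]) (fun s t => by rw [← ta, ← ta, g1])
    (fun s t => by rw [← tb, ← tb, g1]) fun s => by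
      simp only [γ, t4, Finset.sum_const, Finset.card_univ, nsmul_eq_mul]
      rw [← Nat.card_eq_fintype_card, ← index, ZMod.natCast_eq_one_iff_odd.2 ho, one_mul]
  refine ⟨p, w, fun g s s' e => ?_⟩
  obtain rfl : τ g s = s' := hν ((hτ g s).symm.trans e)
  have k := fun c => @em_inv p q r w c (τ g) (fun t => ⟨τ g⁻¹ t, by rw [← t1, mul_inv_cancel, t3]⟩) (t5 g)
    (fun s t => by rw [← h, ← h, g1]) s
  rw [inU_iff p q r w, inU_iff p q r w, inV_iff p q r w, inV_iff p q r w]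
  exact ⟨k _, k _⟩

end Cfsg.Agent.UT
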